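import Mathlib
import Cfsg.Prelude.Def_BlockRank
import Cfsg.Agent.Blocks.PrincipalSection
import Cfsg.Agent.Blocks.CentralizerSum
import Cfsg.Agent.Blocks.Central

/-!
# Integrality of the generalized decomposition numbers (T3 of S4615)

If the members of `B₀(C_G(x))` restrict to integral combinations of `1` and `ξ` on the `p`-regular elements, then
`ζ (x h) = a + b ξ(h)` with algebraic integers `a`, `b`, for every `ζ ∈ B₀(G)`.
-/

set_option autoImplicit false

open Cfsg
open scoped ComplexConjugate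

namespace Cfsg.Agent.H686.K4

open Cfsg.Agent.Characters.Core Cfsg.Agent.Blocks Cfsg.Agent.Blocks.Basic Cfsg.Agent.Blocks.Local

universe u

variable {G : Type u} [Group G] [Finite G] {p : ℕ} [hp : Fact p.Prime] {M : Ideal AlgInt}

/-- The scalar of a central element is an algebraic integer. -/
theorem exists_scalar_integral {C : Type*} [Group C] [Finite C] {ψ : C → ℂ} (hψ : IsIrrCharacter C ψ) {z : C}
    (hz : z ∈ Subgroup.center C) : ∃ c : ℂ, IsIntegral ℤ c ∧ ∀ h : C, ψ (z * h) = c * ψ h := by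
  obtain ⟨c, -, hc⟩ := CentralizerSum.exists_central_scalar hψ hz
  refine ⟨c, ?_, hc⟩
  have h1 := Blocks.Central.isIntegral_centralChar hψ z
  have h2 : Subgroup.centralizer ({z} : Set C) = ⊤ := by
    rw [eq_top_iff]
    intro g _
    rw [Subgroup.mem_centralizer_singleton_iff]
    exact (Subgroup.mem_center_iff.1 hz g)
  have h3 : ψ z = c * ψ 1 := by rw [← hc 1, mul_one]
  rw [Basic.centralChar_def, h2, Subgroup.index_top, h3, Nat.cast_one, one_mul,
    mul_div_assoc, div_self (isIrr_apply_one_ne_zero hψ), mul_one] at h1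
  exact h1

/-- The coefficients of `c ↦ χ (z c)` are algebraic integers. -/
theorem isIntegral_classInner {C : Type*} [Group C] [Finite C] [Fintype C] {χ : C → ℂ} (hχ : IsCharacter C χ) {z : C}
    (hz : z ∈ Subgroup.center C) (ψ : IrrCharacter C) :
    IsIntegral ℤ (classInner (fun c => χ (z * c)) (ψ : C → ℂ)) := by
  have := finite_irr (G := C)
  have := Fintype.ofFinite (IrrCharacter C)
  obtain ⟨m, rfl⟩ := isCharacter_iff.1 hχ
  choose c hc1 hc2 using fun ξ : IrrCharacter C => exists_scalar_integral ξ.2 hz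
  have h1 : (fun g => (∑ ξ : IrrCharacter C, m ξ • (ξ : C → ℂ)) (z * g)) =
      ∑ ξ : IrrCharacter C, ((m ξ : ℂ) * c ξ) • (ξ : C → ℂ) := by
    funext g
    rw [Finset.sum_apply, Finset.sum_apply]
    refine Finset.sum_congr rfl fun ξ _ => ?_
    rw [Pi.smul_apply, Pi.smul_apply, hc2, nsmul_eq_mul, smul_eq_mul, mul_assoc]
  rw [h1, classInner_sum_smul_irr]
  exact (isIntegral_algebraMap (R := ℤ) (x := (m ψ : ℤ))).mul (hc1 ψ) |> fun h => by simpa using h

/-- **T3: integrality.** -/
theorem integral (hM : IsPModular p M) {x : G} (hx : ∃ k : ℕ, orderOf x = p ^ k)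
    {ξ : IrrCharacter (Subgroup.centralizer ({x} : Set G))}
    (hspan : ∀ ψ ∈ principalBlock M (Subgroup.centralizer ({x} : Set G)), ∃ m n : ℤ,
      ∀ h : Subgroup.centralizer ({x} : Set G), ¬ p ∣ orderOf h →
        (ψ : Subgroup.centralizer ({x} : Set G) → ℂ) h =
          m + n * (ξ : Subgroup.centralizer ({x} : Set G) → ℂ) h)
    {ζ : IrrCharacter G} (hζ : ζ ∈ principalBlock M G) :
    ∃ a b : ℂ, IsIntegral ℤ a ∧ IsIntegral ℤ b ∧
      ∀ h : Subgroup.centralizer ({x} : Set G), ¬ p ∣ orderOf h →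
        (ζ : G → ℂ) (x * h) = a + b * (ξ : Subgroup.centralizer ({x} : Set G) → ℂ) h := by
  classical
  have hMp := isPrime_of_isPModular hM
  have := Fintype.ofFinite G
  set C := Subgroup.centralizer ({x} : Set G) with hC
  have := Fintype.ofFinite C
  have := finite_irr (G := C)
  have := Fintype.ofFinite (IrrCharacter C)
  have hxC : x ∈ C := Subgroup.mem_centralizer_singleton_iff.2 rfl
  have hz : (⟨x, hxC⟩ : C) ∈ Subgroup.center C := by
    rw [Subgroup.mem_center_iff]
    intro g
    exact Subtype.ext (Subgroup.mem_centralizer_singleton_iff.1 g.2)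
  have hsum := fun (y : C) (hy : ¬ p ∣ orderOf y) => CentralizerSum.sum_components hM x hx hC
    PrincipalSection.isPBlock_principalBlock (A := principalBlock M C)
    (PrincipalSection.mem_principalBlock_iff_induced hM x hx hC) y hy ζ
  choose! m n hmn using hspan
  set k : IrrCharacter C → ℂ := fun ψ => classInner (fun c : C => (ζ : G → ℂ) (x * (c : G))) (ψ : C → ℂ) with hk
  have hki : ∀ ψ, IsIntegral ℤ (k ψ) := fun ψ =>
    isIntegral_classInner (isCharacter_comp C.subtype (isIrr_isCharacter ζ.2)) hz ψ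
  refine ⟨∑ ψ with ψ ∈ principalBlock M C, k ψ * m ψ, ∑ ψ with ψ ∈ principalBlock M C, k ψ * n ψ, ?_, ?_, ?_⟩
  · refine IsIntegral.sum _ fun ψ _ => (hki ψ).mul ?_
    exact isIntegral_algebraMap (R := ℤ) (x := m ψ)
  · refine IsIntegral.sum _ fun ψ _ => (hki ψ).mul ?_
    exact isIntegral_algebraMap (R := ℤ) (x := n ψ)
  · intro h hh
    have h1 := hsum h hh
    rw [if_pos hζ] at h1
    rw [← h1, Finset.sum_mul, ← Finset.sum_add_distrib]
    refine Finset.sum_congr rfl fun ψ hψ => ?_
    rw [hmn ψ (Finset.mem_filter.1 hψ).2 h hh]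
    ring

/-- the statement in the form of `tools/plans/S4615_iface.lean.txt` -/
theorem integral_iface (hM : IsPModular p M) {x : G} (hx : ∃ k : ℕ, orderOf x = p ^ k)
    (_hl : blockRank p (principalBlock M (Subgroup.centralizer ({x} : Set G))) = 2)
    {ξ : IrrCharacter (Subgroup.centralizer ({x} : Set G))}
    (_hξ : ξ ∈ principalBlock M (Subgroup.centralizer ({x} : Set G)))
    (hspan : ∀ ψ ∈ principalBlock M (Subgroup.centralizer ({x} : Set G)), ∃ m n : ℤ,
      ∀ h : Subgroup.centralizer ({x} : Set G), ¬ p ∣ orderOf h →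
        (ψ : Subgroup.centralizer ({x} : Set G) → ℂ) h =
          m + n * (ξ : Subgroup.centralizer ({x} : Set G) → ℂ) h)
    {ζ : IrrCharacter G} (hζ : ζ ∈ principalBlock M G) :
    ∃ a b : ℂ, IsIntegral ℤ a ∧ IsIntegral ℤ b ∧
      ∀ h : Subgroup.centralizer ({x} : Set G), ¬ p ∣ orderOf h →
        (ζ : G → ℂ) (x * h) = a + b * (ξ : Subgroup.centralizer ({x} : Set G) → ℂ) h :=
  integral hM hx hspan hζ

end Cfsg.Agent.H686.K4
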